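import Mathlib
import Cfsg.Agent.Lib.Compute.TableIso
import Cfsg.Agent.Lib.Compute.SylA8.Data
import Cfsg.Agent.Lib.Compute.PSU42
import Cfsg.Agent.Lib.Compute.OrthTransport
import Cfsg.Agent.Lib.Linalg.IsomRep
import Cfsg.Agent.S0288

/-!
# Sylow 2-subgroups of `A₈` and `PSp₄(3)`, of `S₈` and `O₆⁻(2)`

Parallel multiplication tables for the 64 (resp. 128) elements, checked by the kernel.
-/

set_option autoImplicit false
set_option maxRecDepth 100000

namespace Cfsg.Agent.Lib.Compute.SylA8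

open Cfsg Matrix Cfsg.Agent.Lib.Compute.PSU42

/-- Table lookup with range control. -/
def look (L : List ℕ) (i m : ℕ) (h : 0 < m) : Fin m := ⟨L.getD i 0 % m, Nat.mod_lt _ h⟩

/-! ### The permutations of degree 8 -/

def p1F (i : Fin 64) (x : Fin 8) : Fin 8 := ⟨(P1.getD i.1 0 >>> (3 * x.1)) % 8, Nat.mod_lt _ (by decide)⟩
def inv1 (i : Fin 64) : Fin 64 := look I1 i.1 64 (by decide)
def g1 (c : Fin 3) : Fin 64 := look G1 c.1 64 (by decide)
def r1 (c : Fin 3) (i : Fin 64) : Fin 64 := look (R1.getD c.1 []) i.1 64 (by decide)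
def par1 (i : Fin 64) : Fin 64 := look PAR1 i.1 64 (by decide)
def gen1 (i : Fin 64) : Fin 3 := look GEN1 i.1 3 (by decide)
def dep1 (i : Fin 64) : ℕ := DEP1.getD i.1 0

theorem p1_left : ∀ i x, p1F (inv1 i) (p1F i x) = x := by decide +kernel
theorem p1_right : ∀ i x, p1F i (p1F (inv1 i) x) = x := by decide +kernel

def perm1 (i : Fin 64) : Equiv.Perm (Fin 8) := ⟨p1F i, p1F (inv1 i), p1_left i, p1_right i⟩

theorem perm1_sign : ∀ i, Equiv.Perm.sign (perm1 i) = 1 := by decide +kernel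

theorem p1_mul : ∀ c i x, p1F i (p1F (g1 c) x) = p1F (r1 c i) x := by decide +kernel
theorem p1_zero : ∀ x, p1F 0 x = x := by decide +kernel

/-- The packed code of a function of degree 8. -/
def psig (f : Fin 8 → Fin 8) : ℕ :=
  (f 0).1 + 8 * ((f 1).1 + 8 * ((f 2).1 + 8 * ((f 3).1 + 8 * ((f 4).1 + 8 * ((f 5).1 + 8 * ((f 6).1 + 8 * (f 7).1))))))

theorem p1_idx : ∀ i : Fin 64, P1.idxOf (psig (p1F i)) = i.1 := by decide +kernel

theorem p1_inj (i j : Fin 64) (h : ∀ x, p1F i x = p1F j x) : i = j := by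
  apply Fin.ext
  rw [← p1_idx i, ← p1_idx j, funext h]

theorem tree1 : ∀ j, j ≠ 0 → dep1 (par1 j) < dep1 j ∧ r1 (gen1 j) (par1 j) = j := by decide +kernel

def lA (i : Fin 64) : alternatingGroup (Fin 8) := ⟨perm1 i, Equiv.Perm.mem_alternatingGroup.2 (perm1_sign i)⟩

theorem lA_mul (c : Fin 3) (i : Fin 64) : lA i * lA (g1 c) = lA (r1 c i) := by
  apply Subtype.ext
  apply Equiv.ext
  intro x
  exact p1_mul c i x

theorem lA_zero : lA 0 = 1 := by
  apply Subtype.ext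
  apply Equiv.ext
  intro x
  exact p1_zero x

theorem lA_inj : Function.Injective lA := by
  intro i j h
  apply p1_inj
  intro x
  have := congrArg (fun π : alternatingGroup (Fin 8) => π.1 x) h
  exact this

/-! ### The matrices over `𝔽₃` -/

abbrev ι4 := Fin 2 ⊕ Fin 2

def enc4 : ι4 → ℕ
  | .inl x => x.1
  | .inr x => 2 + x.1

def ofC3 : ℕ → F3
  | 0 => F3.z
  | 1 => F3.o
  | _ => F3.t

def mat1 (i : Fin 64) : Matrix ι4 ι4 F3 := fun a b => ofC3 ((M1.getD i.1 0 >>> (2 * (4 * enc4 a + enc4 b))) % 4)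

theorem mat1_sp : ∀ i, mat1 i * Matrix.J (Fin 2) F3 * (mat1 i)ᵀ = Matrix.J (Fin 2) F3 := by decide +kernel

theorem mat1_mul : ∀ c i, mat1 i * mat1 (g1 c) = mat1 (r1 c i) ∨ mat1 i * mat1 (g1 c) = -mat1 (r1 c i) := by
  decide +kernel

theorem mat1_zero : mat1 0 = 1 := by decide +kernel

/-- The packed code of a matrix over `𝔽₃`. -/
def sig3 (M : Matrix ι4 ι4 F3) : ℕ :=
  let z : Fin 2 := 0
  let o : Fin 2 := 1
  (M (.inl z) (.inl z)).code + 4 * ((M (.inl z) (.inl o)).code + 4 * ((M (.inl z) (.inr z)).code + 4 * ((M (.inl z) (.inr o)).code +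
  4 * ((M (.inl o) (.inl z)).code + 4 * ((M (.inl o) (.inl o)).code + 4 * ((M (.inl o) (.inr z)).code + 4 * ((M (.inl o) (.inr o)).code +
  4 * ((M (.inr z) (.inl z)).code + 4 * ((M (.inr z) (.inl o)).code + 4 * ((M (.inr z) (.inr z)).code + 4 * ((M (.inr z) (.inr o)).code +
  4 * ((M (.inr o) (.inl z)).code + 4 * ((M (.inr o) (.inl o)).code + 4 * ((M (.inr o) (.inr z)).code + 4 * (M (.inr o) (.inr o)).code))))))))))))))

/-- A code of a matrix up to sign. -/
def canon3 (M : Matrix ι4 ι4 F3) : ℕ := min (sig3 M) (sig3 (-M))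

theorem canon3_neg (M : Matrix ι4 ι4 F3) : canon3 (-M) = canon3 M := by
  unfold canon3
  rw [neg_neg, min_comm]

theorem mat1_idx : ∀ i : Fin 64, C1.idxOf (canon3 (mat1 i)) = i.1 := by decide +kernel

theorem mat1_inj (i j : Fin 64) (h : mat1 i = mat1 j ∨ mat1 i = -mat1 j) : i = j := by
  apply Fin.ext
  rw [← mat1_idx i, ← mat1_idx j]
  rcases h with h | h
  · rw [h]
  · rw [h, canon3_neg]

def sp1 (i : Fin 64) : Matrix.symplecticGroup (Fin 2) F3 := ⟨mat1 i, SymplecticGroup.mem_iff.2 (mat1_sp i)⟩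

def psp1 (i : Fin 64) : PSp 2 F3 := QuotientGroup.mk (sp1 i)

theorem mk_eq_of_pm (a b : Matrix.symplecticGroup (Fin 2) F3) (h : a.1 = b.1 ∨ a.1 = -b.1) :
    (QuotientGroup.mk a : PSp 2 F3) = QuotientGroup.mk b := by
  rw [QuotientGroup.eq, Cfsg.Agent.Lib.Classical.Symp.SimpleMatrix.center_symplectic_iff _ (by norm_num)]
  rcases h with h | h
  · left
    have : a = b := Subtype.ext h
    rw [this, inv_mul_cancel]
    rfl
  · right
    have h1 : ((a⁻¹ * b : Matrix.symplecticGroup (Fin 2) F3) : Matrix ι4 ι4 F3) = (a⁻¹).1 * b.1 := rfl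
    have h2 : b.1 = -a.1 := by rw [h, neg_neg]
    have h3 : (a⁻¹).1 * a.1 = 1 := by
      have := congrArg Subtype.val (inv_mul_cancel a)
      exact this
    rw [h1, h2, mul_neg, h3]

theorem pm_of_mk_eq (a b : Matrix.symplecticGroup (Fin 2) F3)
    (h : (QuotientGroup.mk a : PSp 2 F3) = QuotientGroup.mk b) : a.1 = b.1 ∨ a.1 = -b.1 := by
  rw [QuotientGroup.eq, Cfsg.Agent.Lib.Classical.Symp.SimpleMatrix.center_symplectic_iff _ (by norm_num)] at h
  have h1 : ((a⁻¹ * b : Matrix.symplecticGroup (Fin 2) F3) : Matrix ι4 ι4 F3) = (a⁻¹).1 * b.1 := rfl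
  have h3 : a.1 * (a⁻¹).1 = 1 := by
    have := congrArg Subtype.val (mul_inv_cancel a)
    exact this
  rcases h with h | h
  · left
    rw [h1] at h
    calc a.1 = a.1 * ((a⁻¹).1 * b.1) := by rw [h, mul_one]
      _ = (a.1 * (a⁻¹).1) * b.1 := (mul_assoc _ _ _).symm
      _ = b.1 := by rw [h3, one_mul]
  · right
    rw [h1] at h
    calc a.1 = a.1 * (-((a⁻¹).1 * b.1)) := by rw [h, neg_neg, mul_one]
      _ = -((a.1 * (a⁻¹).1) * b.1) := by rw [mul_neg, mul_assoc]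
      _ = -b.1 := by rw [h3, one_mul]

theorem psp1_mul (c : Fin 3) (i : Fin 64) : psp1 i * psp1 (g1 c) = psp1 (r1 c i) :=
  mk_eq_of_pm (sp1 i * sp1 (g1 c)) (sp1 (r1 c i)) (mat1_mul c i)

theorem psp1_zero : psp1 0 = 1 :=
  mk_eq_of_pm (sp1 0) 1 (Or.inl mat1_zero)

theorem psp1_inj : Function.Injective psp1 := fun i j h => mat1_inj i j (pm_of_mk_eq _ _ h)

theorem card_psp3 : Nat.card (PSp 2 F3) = 25920 := by
  have h3 := Subgroup.card_eq_card_quotient_mul_card_subgroup (Subgroup.center (Matrix.symplecticGroup (Fin 2) F3))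
  rw [card_center_Sp3, card_Sp3] at h3
  change 51840 = Nat.card (PSp 2 F3) * 2 at h3
  omega

/-- **Sylow 2-subgroups of `A₈` and `PSp₄(3)` are isomorphic.** -/
theorem sylow_A8_PSp {F : Type} [Field F] [Fintype F] (hF : Fintype.card F = 3)
    (P : Sylow 2 (alternatingGroup (Fin 8))) (Q : Sylow 2 (PSp 2 F)) :
    Nonempty ((P : Subgroup (alternatingGroup (Fin 8))) ≃* (Q : Subgroup (PSp 2 F))) := by
  let e₂ : PSp 2 F ≃* PSp 2 F3 :=
    QuotientGroup.congr _ _ (spCongr' (equivOfCard3 F hF)) (Cfsg.Agent.Lib.Compute.SmallField.map_center_eq _)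
  have cP : Nat.card (PSp 2 F) = 25920 := by
    rw [Nat.card_congr e₂.toEquiv, card_psp3]
  have cA : Nat.card (alternatingGroup (Fin 8)) = 20160 := by
    rw [nat_card_alternatingGroup, Nat.card_fin]
    decide
  have : Finite (PSp 2 F) := Nat.finite_of_card_ne_zero (by rw [cP]; norm_num)
  obtain ⟨H₁, H₂, c₁, c₂, ⟨φ⟩⟩ := TableIso.exists_subgroups_equiv lA (fun i => e₂.symm (psp1 i)) g1 r1 0 par1 gen1 dep1
    lA_zero (by simp only [psp1_zero, map_one]) lA_mul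
    (fun c i => by rw [← map_mul, psp1_mul]) tree1 lA_inj
    (fun i j h => psp1_inj (e₂.symm.injective h))
  refine TableIso.sylow_nonempty_equiv H₁ H₂ ?_ ?_ φ P Q
  · rw [cA, c₁, TableIso.factorization_two_of (a := 6) (m := 315) (by norm_num) (by norm_num)]
    norm_num
  · rw [cP, c₂, TableIso.factorization_two_of (a := 6) (m := 405) (by norm_num) (by norm_num)]
    norm_num

/-! ### The permutations for the symmetric group -/

def p2F (i : Fin 128) (x : Fin 8) : Fin 8 := ⟨(P2.getD i.1 0 >>> (3 * x.1)) % 8, Nat.mod_lt _ (by decide)⟩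
def inv2 (i : Fin 128) : Fin 128 := look I2 i.1 128 (by decide)
def g2 (c : Fin 3) : Fin 128 := look G2 c.1 128 (by decide)
def r2 (c : Fin 3) (i : Fin 128) : Fin 128 := look (R2.getD c.1 []) i.1 128 (by decide)
def par2 (i : Fin 128) : Fin 128 := look PAR2 i.1 128 (by decide)
def gen2 (i : Fin 128) : Fin 3 := look GEN2 i.1 3 (by decide)
def dep2 (i : Fin 128) : ℕ := DEP2.getD i.1 0

theorem p2_left : ∀ i x, p2F (inv2 i) (p2F i x) = x := by decide +kernel
theorem p2_right : ∀ i x, p2F i (p2F (inv2 i) x) = x := by decide +kernel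

def perm2 (i : Fin 128) : Equiv.Perm (Fin 8) := ⟨p2F i, p2F (inv2 i), p2_left i, p2_right i⟩

theorem p2_mul : ∀ c i x, p2F i (p2F (g2 c) x) = p2F (r2 c i) x := by decide +kernel
theorem p2_zero : ∀ x, p2F 0 x = x := by decide +kernel
theorem p2_idx : ∀ i : Fin 128, P2.idxOf (psig (p2F i)) = i.1 := by decide +kernel

theorem p2_inj (i j : Fin 128) (h : ∀ x, p2F i x = p2F j x) : i = j := by
  apply Fin.ext
  rw [← p2_idx i, ← p2_idx j, funext h]

theorem tree2 : ∀ j, j ≠ 0 → dep2 (par2 j) < dep2 j ∧ r2 (gen2 j) (par2 j) = j := by decide +kernel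

theorem perm2_mul (c : Fin 3) (i : Fin 128) : perm2 i * perm2 (g2 c) = perm2 (r2 c i) :=
  Equiv.ext (p2_mul c i)

theorem perm2_zero : perm2 0 = 1 := Equiv.ext p2_zero

theorem perm2_inj : Function.Injective perm2 := fun i j h =>
  p2_inj i j (fun x => congrArg (fun π : Equiv.Perm (Fin 8) => π x) h)

/-! ### The matrices over `𝔽₂` -/

abbrev ι6 := (Fin 2 ⊕ Fin 2) ⊕ Fin 2

def enc6 : ι6 → ℕ
  | .inl (.inl x) => x.1
  | .inl (.inr x) => 2 + x.1
  | .inr x => 4 + x.1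

def ofB (n : ℕ) : ZMod 2 := if n = 0 then 0 else 1

def mat2 (i : Fin 128) : Matrix ι6 ι6 (ZMod 2) := fun a b => ofB ((BIG2 >>> (36 * i.1 + 6 * enc6 a + enc6 b)) % 2)

theorem mat2_left : ∀ i, mat2 (inv2 i) * mat2 i = 1 := by decide +kernel
theorem mat2_right : ∀ i, mat2 i * mat2 (inv2 i) = 1 := by decide +kernel
theorem mat2_mul : ∀ c i, mat2 i * mat2 (g2 c) = mat2 (r2 c i) := by decide +kernel
theorem mat2_zero : mat2 0 = 1 := by decide +kernel

def enum6 : List ι6 := [.inl (.inl 0), .inl (.inl 1), .inl (.inr 0), .inl (.inr 1), .inr 0, .inr 1]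

/-- The packed code of a matrix over `𝔽₂`. -/
def sig2 (M : Matrix ι6 ι6 (ZMod 2)) : ℕ :=
  (enum6.flatMap fun a => enum6.map fun b => M a b).foldr (fun x acc => ZMod.val x + 2 * acc) 0

theorem mat2_idx : ∀ i : Fin 128, M2.idxOf (sig2 (mat2 i)) = i.1 := by decide +kernel

theorem mat2_inj (i j : Fin 128) (h : mat2 i = mat2 j) : i = j := by
  apply Fin.ext
  rw [← mat2_idx i, ← mat2_idx j, h]

def vec6 (x0 x1 y0 y1 z1 z2 : ZMod 2) : ι6 → ZMod 2 := Sum.elim (Sum.elim ![x0, x1] ![y0, y1]) ![z1, z2]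

theorem vec6_eta (u : ι6 → ZMod 2) :
    u = vec6 (u (.inl (.inl 0))) (u (.inl (.inl 1))) (u (.inl (.inr 0))) (u (.inl (.inr 1))) (u (.inr 0)) (u (.inr 1)) := by
  funext a
  rcases a with (x | x) | x <;> fin_cases x <;> rfl

abbrev Q2 : (ι6 → ZMod 2) → ZMod 2 := quadFormMinus 2 (ZMod 2) 1 1

theorem gen2_isom : ∀ (c : Fin 3) (x0 x1 y0 y1 z1 z2 : ZMod 2),
    Q2 (mat2 (g2 c) *ᵥ vec6 x0 x1 y0 y1 z1 z2) = Q2 (vec6 x0 x1 y0 y1 z1 z2) := by decide +kernel

theorem mat2_isom_aux : ∀ (d : ℕ) (j : Fin 128), dep2 j = d → ∀ u, Q2 (mat2 j *ᵥ u) = Q2 u := by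
  intro d
  induction d using Nat.strong_induction_on with
  | _ d ih =>
    intro j hj u
    by_cases hje : j = 0
    · rw [hje, mat2_zero, Matrix.one_mulVec]
    · obtain ⟨hlt, hr⟩ := tree2 j hje
      have hm : mat2 j = mat2 (par2 j) * mat2 (g2 (gen2 j)) := by
        rw [mat2_mul, hr]
      rw [hm, ← Matrix.mulVec_mulVec, ih _ (hj ▸ hlt) (par2 j) rfl]
      rw [vec6_eta u, gen2_isom]

theorem mat2_isom (j : Fin 128) (u : ι6 → ZMod 2) : Q2 (mat2 j *ᵥ u) = Q2 u := mat2_isom_aux _ j rfl u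

/-- The tables inside the isometry group over `ZMod 2`. -/
def lO (i : Fin 128) : isometryGroup (ZMod 2) Q2 :=
  ⟨⟨mat2 i, mat2 (inv2 i), mat2_right i, mat2_left i⟩,
    Cfsg.Agent.Lib.Linalg.IsomRep.mem_isometryGroup.2 (mat2_isom i)⟩

theorem lO_mul (c : Fin 3) (i : Fin 128) : lO i * lO (g2 c) = lO (r2 c i) := by
  apply Subtype.ext
  apply Units.ext
  exact mat2_mul c i

theorem lO_zero : lO 0 = 1 := by
  apply Subtype.ext
  apply Units.ext
  exact mat2_zero

theorem lO_inj : Function.Injective lO := fun i j h =>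
  mat2_inj i j (congrArg (fun g : isometryGroup (ZMod 2) Q2 => ((g.1 : Matrix.GeneralLinearGroup ι6 (ZMod 2)) : Matrix ι6 ι6 (ZMod 2))) h)

theorem aniso_z2 : ∀ a b : ZMod 2, (∀ z₁ z₂ : ZMod 2, z₁ ^ 2 + a * z₁ * z₂ + b * z₂ ^ 2 = 0 → z₁ = 0 ∧ z₂ = 0) →
    a = 1 ∧ b = 1 := by decide +kernel

/-- **Sylow 2-subgroups of `S₈` and `O₆⁻(2)` are isomorphic.** -/
theorem sylow_S8_O6 {K : Type} [Field K] [Fintype K] (hK : Fintype.card K = 2) (a b : K)
    (hab : ∀ z₁ z₂ : K, z₁ ^ 2 + a * z₁ * z₂ + b * z₂ ^ 2 = 0 → z₁ = 0 ∧ z₂ = 0)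
    (P : Sylow 2 (Equiv.Perm (Fin 8))) (Q : Sylow 2 (isometryGroup K (quadFormMinus 2 K a b))) :
    Nonempty ((P : Subgroup (Equiv.Perm (Fin 8))) ≃* (Q : Subgroup (isometryGroup K (quadFormMinus 2 K a b)))) := by
  have hcard : Fintype.card K = Fintype.card (ZMod 2) := by rw [hK, ZMod.card]
  let σ : K ≃+* ZMod 2 := FiniteField.ringEquivOfCardEq hcard
  have hab' : σ a = 1 ∧ σ b = 1 := by
    apply aniso_z2
    intro z₁ z₂ h
    have h1 := hab (σ.symm z₁) (σ.symm z₂) (by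
      apply σ.injective
      simpa using h)
    exact ⟨by simpa using congrArg σ h1.1, by simpa using congrArg σ h1.2⟩
  let e₂ : isometryGroup K (quadFormMinus 2 K a b) ≃* isometryGroup (ZMod 2) Q2 :=
    Cfsg.Agent.Lib.Compute.OrthTransport.isometryCongr σ _ _ (fun v => by
      simp [quadFormMinus, hab'.1, hab'.2, Fin.sum_univ_two])
  have cO : Nat.card (isometryGroup K (quadFormMinus 2 K a b)) = 51840 := by
    have h := Cfsg.Agent.S0288.result hK 3 (by norm_num) a b hab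
    have h2 : (2 * 2 ^ (3 * (3 - 1)) * (2 ^ 3 + 1) * ∏ i ∈ Finset.range (3 - 1), (2 ^ (2 * (i + 1)) - 1) : ℕ) = 51840 := by
      decide +kernel
    exact h.trans h2
  have cS : Nat.card (Equiv.Perm (Fin 8)) = 40320 := by
    rw [Nat.card_perm, Nat.card_fin]
    decide
  have : Finite (isometryGroup K (quadFormMinus 2 K a b)) := Nat.finite_of_card_ne_zero (by rw [cO]; norm_num)
  obtain ⟨H₁, H₂, c₁, c₂, ⟨φ⟩⟩ := TableIso.exists_subgroups_equiv perm2 (fun i => e₂.symm (lO i)) g2 r2 0 par2 gen2 dep2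
    perm2_zero (by simp only [lO_zero, map_one]) perm2_mul
    (fun c i => by rw [← map_mul, lO_mul]) tree2 perm2_inj
    (fun i j h => lO_inj (e₂.symm.injective h))
  refine TableIso.sylow_nonempty_equiv H₁ H₂ ?_ ?_ φ P Q
  · rw [cS, c₁, TableIso.factorization_two_of (a := 7) (m := 315) (by norm_num) (by norm_num)]
    norm_num
  · rw [cO, c₂, TableIso.factorization_two_of (a := 7) (m := 405) (by norm_num) (by norm_num)]
    norm_num

end Cfsg.Agent.Lib.Compute.SylA8
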